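import Cfsg.Agent.U62Three.Defs
import Cfsg.Prelude.Def_Spor_Fi22

/-!
# Fi₂₂ from a centraliser of an element of order three: the records and the stage statements

`Q = O₃(C(z))` is the product of three blocks of order 27, `P` the preimage of the largest normal 2-subgroup
of `C(z) / Q`.  Coordinates of `Q / ⟨z⟩` are three pairs over the field with three elements; an element of
`C(z)` acts by a permutation of the blocks and a matrix on each.
-/

set_option autoImplicit false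

open Subgroup Cfsg

namespace Cfsg.Agent.Fi22Three

universe u

/-- Coordinates of a block. -/
abbrev V2 := ZMod 3 × ZMod 3

/-- Coordinates of `Q / ⟨z⟩`. -/
abbrev V6 := Fin 3 → V2

/-- The symplectic form. -/
def om (u v : V6) : ZMod 3 := ∑ i, ((u i).1 * (v i).2 - (u i).2 * (v i).1)

/-- A matrix, by rows. -/
abbrev M2 := ZMod 3 × ZMod 3 × ZMod 3 × ZMod 3

/-- The image of a vector under a matrix. -/
def mApp (m : M2) (v : V2) : V2 := (m.1 * v.1 + m.2.1 * v.2, m.2.2.1 * v.1 + m.2.2.2 * v.2)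

/-- The identity matrix. -/
def mOne : M2 := (1, 0, 0, 1)

/-- The unipotent matrix fixing `(1, 0)`. -/
def mU : M2 := (1, 1, 0, 1)

/-- A monomial operator on `V6`. -/
structure Op where
  /-- Where the blocks go. -/
  perm : Equiv.Perm (Fin 3)
  /-- The matrices. -/
  mat : Fin 3 → M2

/-- The action of an operator. -/
def Op.app (o : Op) (v : V6) : V6 := fun i => mApp (o.mat i) (v (o.perm.symm i))

/-- The class of an element of the quaternion group modulo its centre, as two bits (`4` outside). -/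
def cls (m : M2) : ℕ :=
  if m = (1, 0, 0, 1) ∨ m = (2, 0, 0, 2) then 0
  else if m = (0, 2, 1, 0) ∨ m = (0, 1, 2, 0) then 1
  else if m = (1, 1, 1, 2) ∨ m = (2, 2, 2, 1) then 2
  else if m = (2, 1, 1, 1) ∨ m = (1, 2, 2, 2) then 3
  else 4

variable {G : Type u} [Group G]

/-- The hypotheses of the statement, in the group. -/
structure Hyp (z : G) (Q P : Subgroup G) (Qi : Fin 3 → Subgroup G) : Prop where
  oz : orderOf z = 3
  le : Q ≤ centralizer ({z} : Set G)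
  ext : IsExtraspecial 3 ↥Q
  card : Nat.card ↥Q = 3 ^ 7
  centre : (center ↥Q).map Q.subtype = zpowers z
  normal : centralizer ({z} : Set G) ≤ normalizer (Q : Set G)
  self : centralizer (Q : Set G) ≤ Q
  leP : P ≤ centralizer ({z} : Set G)
  QP : Q ≤ P
  normalP : centralizer ({z} : Set G) ≤ normalizer (P : Set G)
  cardP : Nat.card ↥P = 2 ^ 7 * 3 ^ 7
  /-- `P` is the largest normal subgroup which is a 2-group over `Q`. -/
  coreP : ∀ (N : Subgroup G) (n : ℕ), Q ≤ N → N ≤ centralizer ({z} : Set G) →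
    centralizer ({z} : Set G) ≤ normalizer (N : Set G) → Nat.card ↥N = 2 ^ n * 3 ^ 7 → N ≤ P
  blocks : ∀ i, Qi i ≤ Q ∧ z ∈ Qi i ∧ IsExtraspecial 3 ↥(Qi i) ∧ Nat.card ↥(Qi i) = 27 ∧
    P ≤ normalizer (Qi i : Set G)
  commQ : ∀ i k, i ≠ k → ∀ a ∈ Qi i, ∀ b ∈ Qi k, Commute a b
  sup : ⨆ i, Qi i = Q
  exp4 : ∀ x ∈ P, ∀ i, ∀ q ∈ Qi i, x ^ 4 * q * (x ^ 4)⁻¹ * q⁻¹ ∈ zpowers z
  inv : ∀ x ∈ P, ∀ i, (∀ q ∈ Qi i, x ^ 2 * q * (x ^ 2)⁻¹ * q⁻¹ ∈ zpowers z) →
    (∀ q ∈ Qi i, x * q * x⁻¹ * q⁻¹ ∈ zpowers z) ∨ ∀ q ∈ Qi i, x * q * x⁻¹ * q ∈ zpowers z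
  single : ∀ i, ∃ x ∈ P, (∀ q ∈ Qi i, x * q * x⁻¹ * q ∈ zpowers z) ∧
    ∀ k, k ≠ i → ∀ q ∈ Qi k, x * q * x⁻¹ * q⁻¹ ∈ zpowers z

/-- Some conjugate of `z` in its centraliser is not a power of it. -/
def Moved (z : G) : Prop :=
  ∃ g : G, g * z * g⁻¹ ∈ centralizer ({z} : Set G) ∧ g * z * g⁻¹ ∉ zpowers z

/-- Some conjugate of `z` in `Q` is not a power of it. -/
def InQ (z : G) (Q : Subgroup G) : Prop :=
  ∃ g : G, g * z * g⁻¹ ∈ Q ∧ g * z * g⁻¹ ∉ zpowers z

/-- Coordinates for `Q`, the action of `C(z)` and the 2-group `R` with the three inverting involutions. -/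
structure Frame (z : G) (Q P : Subgroup G) where
  /-- The coordinates. -/
  cv : G → V6
  cv_mul : ∀ a ∈ Q, ∀ b ∈ Q, cv (a * b) = cv a + cv b
  cv_zero : ∀ a ∈ Q, cv a = 0 ↔ a ∈ zpowers z
  cv_surj : ∀ v, ∃ a ∈ Q, cv a = v
  cube : ∀ a ∈ Q, a ^ 3 = 1
  comm : ∀ a ∈ Q, ∀ b ∈ Q, a * b * a⁻¹ * b⁻¹ = z ^ (om (cv a) (cv b)).val
  /-- The action. -/
  act : G → Op
  act_conj : ∀ h ∈ centralizer ({z} : Set G), ∀ a ∈ Q, cv (h * a * h⁻¹) = (act h).app (cv a)
  act_det : ∀ h ∈ centralizer ({z} : Set G), ∀ i,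
    ((act h).mat i).1 * ((act h).mat i).2.2.2 - ((act h).mat i).2.1 * ((act h).mat i).2.2.1 = 1
  act_ker : ∀ h ∈ centralizer ({z} : Set G), (∀ v, (act h).app v = v) → h ∈ Q
  /-- `P` is the part acting by the quaternion groups. -/
  kerP : ∀ h ∈ centralizer ({z} : Set G), (act h).perm = 1 → (∀ i, cls ((act h).mat i) < 4) → h ∈ P
  /-- The Sylow 2-subgroup of `P`. -/
  R : Subgroup G
  R_le : R ≤ P
  cardR : Nat.card ↥R = 2 ^ 7
  R_sup : Q ⊔ R = P
  R_act : ∀ r ∈ R, (act r).perm = 1 ∧ ∀ i, cls ((act r).mat i) < 4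
  /-- The involutions inverting one block each. -/
  t : Fin 3 → G
  t_mem : ∀ i, t i ∈ R
  t_order : ∀ i, orderOf (t i) = 2
  t_act : ∀ i k, (act (t i)).mat k = if i = k then (2, 0, 0, 2) else mOne
  /-- The Sylow 3-subgroups of `C(z) / P` are abelian. -/
  abelian : ∀ T : Subgroup G, Q ≤ T → T ≤ centralizer ({z} : Set G) → IsPGroup 3 ↥T →
    ∀ a ∈ T, ∀ b ∈ T, a * b * a⁻¹ * b⁻¹ ∈ Q

/-- The normal form when a conjugate of `z` lies in `Q`: `R` is the sum-zero part of the three quaternion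
groups, the scalar unipotent `u` and the cycle `s` act, and `y` is the diagonal point. -/
structure Three {z : G} {Q P : Subgroup G} (F : Frame z Q P) where
  W : ∀ r ∈ F.R, cls ((F.act r).mat 0) ^^^ cls ((F.act r).mat 1) ^^^ cls ((F.act r).mat 2) = 0
  /-- The scalar element. -/
  u : G
  u_mem : u ∈ centralizer ({z} : Set G)
  u_act : (F.act u).perm = 1 ∧ ∀ i, (F.act u).mat i = mU
  /-- The cycle. -/
  s : G
  s_mem : s ∈ centralizer ({z} : Set G)
  s_act : (F.act s).perm = finRotate 3 ∧ ∀ i, (F.act s).mat i = mOne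
  dvd : Nat.card ↥(centralizer ({z} : Set G)) ∣ 2 ^ 8 * 3 ^ 9
  /-- The diagonal point. -/
  y : G
  y_mem : y ∈ Q
  y_cv : ∀ i, F.cv y i = (1, 0)
  y_conj : IsConj z y ∨ IsConj z y⁻¹
  supp : ∀ g : G, g * z * g⁻¹ ∈ Q → g * z * g⁻¹ ∉ zpowers z → ∀ i, F.cv (g * z * g⁻¹) i ≠ 0

/-- The conclusion of S2994 in the normal form of `U62Three`. -/
def U62Stmt : Prop :=
  ∀ (G : Type u) [Group G] [Finite G] (z : G) (Q : Subgroup G), U62Three.Hyp z Q →
    ∃ (G₀ : Subgroup G) (F₄ : Type) (_ : Field F₄) (_ : Fintype F₄), G₀.Normal ∧ Fintype.card F₄ = 4 ∧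
      Nonempty (↥G₀ ≃* PSU 6 F₄ 2) ∧ centralizer (G₀ : Set G) = ⊥

/-- The quotient of `C(t)` by `⟨t⟩` has the hypotheses of S2994, and `t` has another conjugate in its
centraliser by an element of odd order. -/
structure Local (z : G) (Q : Subgroup G) (t : G) : Prop where
  ot : orderOf t = 2
  tz : Commute t z
  hyp : ∀ (X : Type u) [Group X] (π : ↥(centralizer ({t} : Set G)) →* X), Function.Surjective π →
    (∀ g, π g = 1 ↔ (g : G) ∈ zpowers t) → ∀ hz : z ∈ centralizer ({t} : Set G),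
      U62Three.Hyp (π ⟨z, hz⟩) ((Q.subgroupOf (centralizer ({t} : Set G))).map π)
  /-- `t` is in the derived group of its centraliser. -/
  comm : t ∈ ⁅(centralizer ({t} : Set G)), (centralizer ({t} : Set G))⁆
  moved : ∃ g : G, Odd (orderOf g) ∧ g * t * g⁻¹ ∈ centralizer ({t} : Set G) ∧ g * t * g⁻¹ ≠ t

/-- The centraliser of `t`: a quasisimple cover of `PSU₆(2)` of index at most two. -/
structure Central (t : G) (C₀ : Subgroup G) : Prop where
  le : C₀ ≤ centralizer ({t} : Set G)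
  mem : t ∈ C₀
  normal : centralizer ({t} : Set G) ≤ normalizer (C₀ : Set G)
  index : C₀.relIndex (centralizer ({t} : Set G)) ≤ 2
  quasi : IsQuasisimple ↥C₀
  quot : ∃ (F₄ : Type) (_ : Field F₄) (_ : Fintype F₄) (_ : ((zpowers t).subgroupOf C₀).Normal),
    Fintype.card F₄ = 4 ∧ Nonempty ((↥C₀ ⧸ (zpowers t).subgroupOf C₀) ≃* PSU 6 F₄ 2)
  rigid : centralizer ({t} : Set G) ⊓ centralizer (C₀ : Set G) ≤ zpowers t

/-- Stage S: the structure of `C(z)`. -/
def FrameStmt : Prop :=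
  ∀ (G : Type u) [Group G] [Finite G] (z : G) (Q P : Subgroup G) (Qi : Fin 3 → Subgroup G),
    Hyp z Q P Qi → ∃ F : Frame z Q P, ∀ i, ∀ a ∈ Q, a ∈ Qi i ↔ ∀ k, k ≠ i → F.cv a k = 0

/-- Stage B: `z` moved in `C(z)` is moved in `Q`. -/
def FusionStmt : Prop :=
  ∀ (G : Type u) [Group G] [Finite G] (z : G) (Q P : Subgroup G) (Qi : Fin 3 → Subgroup G),
    Hyp z Q P Qi → Frame z Q P → Moved z → InQ z Q

/-- Stage A: a conjugate in `Q` forces the normal form. -/
def ThreeStmt : Prop :=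
  ∀ (G : Type u) [Group G] [Finite G] (z : G) (Q P : Subgroup G) (Qi : Fin 3 → Subgroup G),
    Hyp z Q P Qi → Frame z Q P → InQ z Q → ∃ F : Frame z Q P, Nonempty (Three F)

/-- Stage L: the involution of one block. -/
def LocalStmt : Prop :=
  ∀ (G : Type u) [Group G] [Finite G] (z : G) (Q P : Subgroup G) (Qi : Fin 3 → Subgroup G),
    Hyp z Q P Qi → ∀ F : Frame z Q P, Three F → Local z Q (F.t 0)

/-- Stage C: its centraliser, from S2994. -/
def CentralStmt : Prop :=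
  U62Stmt.{u} → ∀ (G : Type u) [Group G] [Finite G] (z : G) (Q P : Subgroup G) (Qi : Fin 3 → Subgroup G),
    Hyp z Q P Qi → ∀ F : Frame z Q P, Three F → Local z Q (F.t 0) → ∃ C₀, Central (F.t 0) C₀

/-- Stage E: the group. -/
def EndStmt : Prop :=
  ∀ (G : Type u) [Group G] [Finite G] (z : G) (Q P : Subgroup G) (Qi : Fin 3 → Subgroup G),
    Hyp z Q P Qi → ∀ F : Frame z Q P, Three F → Local z Q (F.t 0) → ∀ C₀, Central (F.t 0) C₀ →
      Cfsg.Spor.IsoFi22 G ∨ Nonempty (G ≃* MulAut Cfsg.Spor.Fi22)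

end Cfsg.Agent.Fi22Three
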